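import Cfsg.Agent.H460.S8.TabA
import Cfsg.Agent.H672.SporIM.RankRows
import Cfsg.Agent.H678.DG.JTwoDeg
import Cfsg.Agent.H587.LD.RowM24
import Cfsg.Agent.M24Order.ToLast
import Cfsg.Agent.M24Order.Final
import Cfsg.Agent.H417.DegMTwentyFour
import Cfsg.Agent.HN.AutHS
import Cfsg.Agent.H765.DS.HSMcL
import Cfsg.Agent.H816.IMM
import Cfsg.Agent.H843.IMC.Co1B
import Cfsg.Agent.H843.IMC.Co2A
import Cfsg.Agent.H843.IMC.Co3A
import Cfsg.Agent.H517.S8.McLDeg
import Cfsg.Agent.H30.GraphFi24A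
import Cfsg.Agent.H3.DS.Fi22Row
import Cfsg.Agent.H999.DS.RowRu

/-!
# S4908, SOC1, sporadic socles: known degrees, II (helper460)

`M24`, `J2`, `Co1`, `Co2`, `Co3`, `McL`, `HS`, `Ru`, `Fi22`, `Fi23`, `Fi24'`, `M`.
-/

set_option autoImplicit false
set_option maxRecDepth 100000

namespace Cfsg.Agent.H460.S8

open Cfsg

universe u

variable {S : Type u} [Group S]

theorem m24_deg [Finite S] (hG : IsM24 S) : 990 ∈ charDegrees S ∧ 5544 ∈ charDegrees S ∧ 1035 ∈ charDegrees S ∧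
    5796 ∈ charDegrees S ∧ 1771 ∈ charDegrees S ∧ 2024 ∈ charDegrees S := by
  have := hG.1
  obtain ⟨H⟩ := M24Order.Final.exists_hyp hG.2
  have : Fact (Nat.Prime 5) := ⟨by norm_num⟩
  have : Fact (Nat.Prime 7) := ⟨by norm_num⟩
  obtain ⟨R⟩ : Nonempty (Sylow 5 S) := inferInstance
  obtain ⟨T⟩ : Nonempty (Sylow 7 S) := inferInstance
  obtain ⟨L, M, B, ε, a, b, c, d, h5, ⟨K', M', D, a', h7⟩ | ⟨K', M', B', ε', l', h7⟩⟩ :=
    SporadicA.M24.Convert.exists_blocks H R T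
  · obtain ⟨t, v, Θ, Θ', L⟩ := M24Order.ToLast.exists_last H h5 h7
    exact ⟨⟨_, L.d990⟩, ⟨_, L.d5544⟩, ⟨_, L.d1035⟩, ⟨_, L.d5796⟩, ⟨_, L.d1771⟩, ⟨_, L.d2024⟩⟩
  · exact (S0422.six_false (SporadicA.M24.Convert.conv H) h5 h7).elim

theorem t_m24 [Finite S] [IsSimpleGroup S] (h : Spor.IsoM24 S) :
    ∀ d ∈ [23, 990, 1035, 1771, 2024, 5544, 5796], d ∈ charDegrees S := by
  obtain ⟨h1, h2, h3, h4, h5, h6⟩ := m24_deg (S := S) ⟨inferInstance, NotCT.Orders.m24 h⟩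
  obtain ⟨e⟩ := h
  have h7 : 23 ∈ charDegrees S := mem_of_equiv e H587.LD.exists_irr_M24
  intro d hd
  simp only [List.mem_cons, List.not_mem_nil, or_false] at hd
  rcases hd with rfl | rfl | rfl | rfl | rfl | rfl | rfl <;> assumption

theorem t_j2 [Finite S] (h : Spor.IsoJ2 S) : ∀ d ∈ [36, 63], d ∈ charDegrees S := by
  obtain ⟨h1, h2⟩ := H672.SporIM.j2 h
  intro d hd
  simp only [List.mem_cons, List.not_mem_nil, or_false] at hd
  rcases hd with rfl | rfl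
  · exact h2
  · exact h1

theorem t_co1 (h : Spor.IsoCo1 S) : ∀ d ∈ [276, 299], d ∈ charDegrees S := by
  obtain ⟨e⟩ := h
  intro d hd
  simp only [List.mem_cons, List.not_mem_nil, or_false] at hd
  rcases hd with rfl | rfl
  · exact mem_of_equiv e H843.IMC.Co1B.hasDeg_276
  · exact mem_of_equiv e H843.IMC.Co1B.hasDeg_299

theorem t_co2 (h : Spor.IsoCo2 S) : ∀ d ∈ [23, 275, 2024], d ∈ charDegrees S := by
  obtain ⟨e⟩ := h
  intro d hd
  simp only [List.mem_cons, List.not_mem_nil, or_false] at hd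
  rcases hd with rfl | rfl | rfl
  · exact mem_of_equiv e H843.IMC.Co2A.hasDeg_23
  · exact mem_of_equiv e H843.IMC.Co2A.hasDeg_2024_275.2
  · exact mem_of_equiv e H843.IMC.Co2A.hasDeg_2024_275.1

theorem t_co3 (h : Spor.IsoCo3 S) : ∀ d ∈ [23, 275], d ∈ charDegrees S := by
  obtain ⟨e⟩ := h
  intro d hd
  simp only [List.mem_cons, List.not_mem_nil, or_false] at hd
  rcases hd with rfl | rfl
  · exact mem_of_equiv e H843.IMC.Co3A.hasDeg_23
  · exact mem_of_equiv e H843.IMC.Co3A.hasDeg_275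

theorem t_mcl (h : Spor.IsoMcL S) :
    ∀ d ∈ [22, 231, 252, 770, 896, 1750, 3520, 4500, 4752, 5103, 5544, 8019, 8250, 9625, 9856, 10395],
      d ∈ charDegrees S := by
  have := H517.S8.McLDeg.finite_of h
  rw [H517.S8.McLDeg.charDegrees_McL h]
  intro d hd
  simp only [List.mem_cons, List.not_mem_nil, or_false] at hd
  simp only [Set.mem_insert_iff, Set.mem_singleton_iff]
  tauto

theorem t_hs [Finite S] (h : Spor.IsoHS S) : ∀ d ∈ [22, 77, 693], d ∈ charDegrees S := by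
  have h1 := mem_of_irr (H765.DS.HSMcL.hs_22 h)
  have h2 := mem_of_irr (H765.DS.HSMcL.hs_77 h)
  obtain ⟨e⟩ := h
  obtain ⟨⟨f⟩, -⟩ := HN.AutHS.nonempty_Q
  intro d hd
  simp only [List.mem_cons, List.not_mem_nil, or_false] at hd
  rcases hd with rfl | rfl | rfl
  · exact h1
  · exact h2
  · exact mem_of_equiv (e.trans f.symm) H852.PSq.HS.deg_693

theorem t_ru (h : Spor.IsoRu S) : ∀ d ∈ [783, 3276], d ∈ charDegrees S := by
  obtain ⟨e⟩ := h
  obtain ⟨χ₁, χ₂, h1, h2⟩ := H999.DS.ru_chars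
  intro d hd
  simp only [List.mem_cons, List.not_mem_nil, or_false] at hd
  rcases hd with rfl | rfl
  · exact mem_of_equiv (e.trans Cfsg.Agent.RuLat.Main.equiv) (mem_of_irr' ⟨χ₁, h1⟩)
  · exact mem_of_equiv (e.trans Cfsg.Agent.RuLat.Main.equiv) (mem_of_irr' ⟨χ₂, h2⟩)

theorem t_fi22 [Finite S] (h : Spor.IsoFi22 S) : ∀ d ∈ [429, 3080], d ∈ charDegrees S := by
  have h1 := mem_of_irr (H3.DS.Fi22.exists_deg h).1
  have h2 := mem_of_irr (H3.DS.Fi22.exists_deg h).2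
  intro d hd
  simp only [List.mem_cons, List.not_mem_nil, or_false] at hd
  rcases hd with rfl | rfl
  · exact h1
  · exact h2

theorem t_fi23 (h : Spor.IsoFi23 S) : ∀ d ∈ [782, 30888], d ∈ charDegrees S := by
  have h1 := H672.SporIM.fi23 h
  intro d hd
  simp only [List.mem_cons, List.not_mem_nil, or_false] at hd
  rcases hd with rfl | rfl
  · exact h1.2
  · exact h1.1

theorem t_fi24 (h : Spor.IsoFi24' S) : ∀ d ∈ [57477, 249458], d ∈ charDegrees S := by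
  obtain ⟨e⟩ := h
  intro d hd
  simp only [List.mem_cons, List.not_mem_nil, or_false] at hd
  rcases hd with rfl | rfl
  · exact mem_of_equiv e H30.GraphFi24.exists_deg.1
  · exact mem_of_equiv e H30.GraphFi24.exists_deg.2

theorem t_m (h : Spor.IsoM S) : ∀ d ∈ [196883, 842609326], d ∈ charDegrees S := by
  intro d hd
  simp only [List.mem_cons, List.not_mem_nil, or_false] at hd
  rcases hd with rfl | rfl
  · obtain ⟨χ, h1, h2⟩ := H816.IMM.exists_chi_196883 h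
    exact mem_of_irr ⟨χ, h1, by rw [h2]; norm_num⟩
  · obtain ⟨χ, h1, h2⟩ := H816.IMM.exists_chi_842609326 h
    exact mem_of_irr ⟨χ, h1, by rw [h2]; norm_num⟩

end Cfsg.Agent.H460.S8
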