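import Cfsg.Agent.H460.S8.TabA
import Cfsg.Agent.H460.S8.TabB
import Cfsg.Agent.H691.AN.Defs
import Cfsg.Agent.H55.OutGen
import Cfsg.Agent.H677.J3Field
import Cfsg.Agent.H489.OutSpor
import Cfsg.Agent.H816.OutEmb
import Cfsg.Agent.S2060
import Cfsg.Agent.S2063
import Cfsg.Agent.S2064
import Cfsg.Agent.S2065
import Cfsg.Agent.S2068
import Cfsg.Agent.S2069
import Cfsg.Agent.S2070
import Cfsg.Agent.S2071
import Cfsg.Agent.S2076
import Cfsg.Agent.S2077
import Cfsg.Agent.S2080
import Cfsg.Agent.S2083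
import Cfsg.Agent.S2084
import Cfsg.Agent.S2085

/-!
# S4908, SOC1: sporadic socles (helper460)

`spor_of` : `A` is almost simple with a sporadic socle `S`, all the degrees of `A` pass the test `OK`; if `chk OK t` then `S`
is the sporadic group with the tag `t`. The test `chk OK t` says that for each other sporadic group some known degree `d`
fails `OK` (and `2 * d` too, if the group has an outer automorphism).
-/

set_option autoImplicit false
set_option maxRecDepth 100000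

namespace Cfsg.Agent.H460.S8

open Cfsg
open Cfsg.Agent.H691.AN (AlmostSimple)

universe u v

/-- the names of the sporadic groups -/
inductive Tag
  | m11 | m12 | m22 | m23 | m24 | j1 | j2 | j3 | j4 | co1 | co2 | co3 | mcl | hs | suz | he | ru | on | ly | fi22 | fi23
  | fi24 | hn | th | b | m
  deriving DecidableEq

/-- all the names -/
def tags : List Tag :=
  [.m11, .m12, .m22, .m23, .m24, .j1, .j2, .j3, .j4, .co1, .co2, .co3, .mcl, .hs, .suz, .he, .ru, .on, .ly, .fi22, .fi23,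
    .fi24, .hn, .th, .b, .m]

theorem mem_tags (t : Tag) : t ∈ tags := by cases t <;> decide

/-- the order, is the outer automorphism group trivial, the known degrees -/
def tab : Tag → ℕ × Bool × List ℕ
  | .m11 => (7920, true, [10, 16, 45, 55])
  | .m12 => (95040, false, [16, 45, 54, 120])
  | .m22 => (443520, false, [21, 45, 55, 99, 154, 210, 231, 280, 385])
  | .m23 => (10200960, true, [45, 230, 896, 1035])
  | .m24 => (244823040, true, [23, 990, 1035, 1771, 2024, 5544, 5796])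
  | .j1 => (175560, true, [56, 76, 77, 120, 133, 209])
  | .j2 => (604800, false, [36, 63])
  | .j3 => (50232960, false, [3078])
  | .j4 => (86775571046077562880, true, [889111, 1776888])
  | .co1 => (4157776806543360000, true, [276, 299])
  | .co2 => (42305421312000, true, [23, 275, 2024])
  | .co3 => (495766656000, true, [23, 275])
  | .mcl => (898128000, false, [22, 231, 252, 770, 896, 1750, 3520, 4500, 4752, 5103, 5544, 8019, 8250, 9625, 9856, 10395])
  | .hs => (44352000, false, [22, 77, 693])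
  | .suz => (448345497600, false, [364, 780, 5940, 15795])
  | .he => (4030387200, false, [680, 1275])
  | .ru => (145926144000, true, [783, 3276])
  | .on => (460815505920, false, [52668])
  | .ly => (51765179004000000, true, [45694, 1534500])
  | .fi22 => (64561751654400, false, [429, 3080])
  | .fi23 => (4089470473293004800, true, [782, 30888])
  | .fi24 => (1255205709190661721292800, false, [57477, 249458])
  | .hn => (273030912000000, false, [8910, 365750])
  | .th => (90745943887872000, true, [30875, 61256])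
  | .b => (4154781481226426191177580544000000, true, [96255])
  | .m => (808017424794512875886459904961710757005754368000000000, true, [196883, 842609326])

/-- the group with the name `t` -/
def IsT (t : Tag) (S : Type u) [Group S] : Prop :=
  match t with
  | .m11 => Spor.IsoM11 S
  | .m12 => Spor.IsoM12 S
  | .m22 => Spor.IsoM22 S
  | .m23 => Spor.IsoM23 S
  | .m24 => Spor.IsoM24 S
  | .j1 => Spor.IsoJ1 S
  | .j2 => Spor.IsoJ2 S
  | .j3 => Spor.IsoJ3 S
  | .j4 => Spor.IsoJ4 S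
  | .co1 => Spor.IsoCo1 S
  | .co2 => Spor.IsoCo2 S
  | .co3 => Spor.IsoCo3 S
  | .mcl => Spor.IsoMcL S
  | .hs => Spor.IsoHS S
  | .suz => Spor.IsoSuz S
  | .he => Spor.IsoHe S
  | .ru => Spor.IsoRu S
  | .on => Spor.IsoON S
  | .ly => Spor.IsoLy S
  | .fi22 => Spor.IsoFi22 S
  | .fi23 => Spor.IsoFi23 S
  | .fi24 => Spor.IsoFi24' S
  | .hn => Spor.IsoHN S
  | .th => Spor.IsoTh S
  | .b => Spor.IsoB S
  | .m => Spor.IsoM S

section

variable {S : Type u} [Group S]

theorem exists_tag (h : IsSporadicGroup S) : ∃ t, IsT t S := by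
  rcases h with h | h | h | h | h | h | h | h | h | h | h | h | h | h | h | h | h | h | h | h | h | h | h | h | h | h
  · exact ⟨.m11, h⟩
  · exact ⟨.m12, h⟩
  · exact ⟨.m22, h⟩
  · exact ⟨.m23, h⟩
  · exact ⟨.m24, h⟩
  · exact ⟨.j1, h⟩
  · exact ⟨.j2, h⟩
  · exact ⟨.j3, h⟩
  · exact ⟨.j4, h⟩
  · exact ⟨.co1, h⟩
  · exact ⟨.co2, h⟩
  · exact ⟨.co3, h⟩
  · exact ⟨.mcl, h⟩
  · exact ⟨.hs, h⟩
  · exact ⟨.suz, h⟩
  · exact ⟨.he, h⟩
  · exact ⟨.ru, h⟩
  · exact ⟨.on, h⟩
  · exact ⟨.ly, h⟩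
  · exact ⟨.fi22, h⟩
  · exact ⟨.fi23, h⟩
  · exact ⟨.fi24, h⟩
  · exact ⟨.hn, h⟩
  · exact ⟨.th, h⟩
  · exact ⟨.b, h⟩
  · exact ⟨.m, h⟩

theorem deg_tab [Finite S] [IsSimpleGroup S] : ∀ {t : Tag}, IsT t S → ∀ d ∈ (tab t).2.2, d ∈ charDegrees S
  | .m11, h => t_m11 h
  | .m12, h => t_m12 h
  | .m22, h => t_m22 h
  | .m23, h => t_m23 h
  | .m24, h => t_m24 h
  | .j1, h => t_j1 h
  | .j2, h => t_j2 h
  | .j3, h => t_j3 h
  | .j4, h => t_j4 h
  | .co1, h => t_co1 h
  | .co2, h => t_co2 h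
  | .co3, h => t_co3 h
  | .mcl, h => t_mcl h
  | .hs, h => t_hs h
  | .suz, h => t_suz h
  | .he, h => t_he h
  | .ru, h => t_ru h
  | .on, h => t_on h
  | .ly, h => t_ly h
  | .fi22, h => t_fi22 h
  | .fi23, h => t_fi23 h
  | .fi24, h => t_fi24 h
  | .hn, h => t_hn h
  | .th, h => t_th h
  | .b, h => t_b h
  | .m, h => t_m h

theorem card_tab : ∀ {t : Tag}, IsT t S → Nat.card S = (tab t).1
  | .m11, h => NotCT.Orders.m11 h
  | .m12, h => NotCT.Orders.m12 h
  | .m22, h => NotCT.Orders.m22 h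
  | .m23, h => NotCT.Orders.m23 h
  | .m24, h => NotCT.Orders.m24 h
  | .j1, h => NotCT.Orders.j1 h
  | .j2, h => NotCT.Orders.j2 h
  | .j3, h => NotCT.Orders.j3 h
  | .j4, h => NotCT.Orders.j4 h
  | .co1, h => NotCT.Orders.co1 h
  | .co2, h => NotCT.Orders.co2 h
  | .co3, h => NotCT.Orders.co3 h
  | .mcl, h => NotCT.Orders.mcl h
  | .hs, h => NotCT.Orders.hs h
  | .suz, h => NotCT.Orders.suz h
  | .he, h => NotCT.Orders.he h
  | .ru, h => NotCT.Orders.ru h
  | .on, h => NotCT.Orders.on h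
  | .ly, h => NotCT.Orders.ly h
  | .fi22, h => NotCT.Orders.fi22 h
  | .fi23, h => NotCT.Orders.fi23 h
  | .fi24, h => NotCT.Orders.fi24 h
  | .hn, h => NotCT.Orders.hn h
  | .th, h => NotCT.Orders.th h
  | .b, h => NotCT.Orders.b h
  | .m, h => NotCT.Orders.m h

theorem out_one {X : Type} [Group X] (h : Nonempty (S ≃* X)) (hX : Nat.card (Cfsg.Out X) = 1) :
    Nat.card (Cfsg.Out S) = 1 := by
  obtain ⟨e⟩ := h
  rw [H55.OutGen.card_out_congr e, hX]

theorem out_tab : ∀ {t : Tag}, IsT t S → (tab t).2.1 = true → Nat.card (Cfsg.Out S) = 1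
  | .m11, h, _ => out_one h Cfsg.Agent.S2060.result
  | .m12, _, h => absurd h (by decide)
  | .m22, _, h => absurd h (by decide)
  | .m23, h, _ => out_one h Cfsg.Agent.S2063.result
  | .m24, h, _ => out_one h Cfsg.Agent.S2064.result
  | .j1, h, _ => out_one h Cfsg.Agent.S2065.result
  | .j2, _, h => absurd h (by decide)
  | .j3, _, h => absurd h (by decide)
  | .j4, h, _ => out_one h Cfsg.Agent.S2068.result
  | .co1, h, _ => out_one h Cfsg.Agent.S2069.result
  | .co2, h, _ => out_one h Cfsg.Agent.S2070.result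
  | .co3, h, _ => out_one h Cfsg.Agent.S2071.result
  | .mcl, _, h => absurd h (by decide)
  | .hs, _, h => absurd h (by decide)
  | .suz, _, h => absurd h (by decide)
  | .he, _, h => absurd h (by decide)
  | .ru, h, _ => out_one h Cfsg.Agent.S2077.result
  | .on, _, h => absurd h (by decide)
  | .ly, h, _ => out_one h Cfsg.Agent.S2076.result
  | .fi22, _, h => absurd h (by decide)
  | .fi23, h, _ => out_one h Cfsg.Agent.S2080.result
  | .fi24, _, h => absurd h (by decide)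
  | .hn, _, h => absurd h (by decide)
  | .th, h, _ => out_one h Cfsg.Agent.S2083.result
  | .b, h, _ => out_one h Cfsg.Agent.S2084.result
  | .m, h, _ => out_one h Cfsg.Agent.S2085.result

theorem IsT.equiv {X : Type v} [Group X] : ∀ {t : Tag}, IsT t S → IsT t X → Nonempty (S ≃* X)
  | .m11, ⟨e⟩, ⟨f⟩ => ⟨e.trans f.symm⟩
  | .m12, ⟨e⟩, ⟨f⟩ => ⟨e.trans f.symm⟩
  | .m22, ⟨e⟩, ⟨f⟩ => ⟨e.trans f.symm⟩
  | .m23, ⟨e⟩, ⟨f⟩ => ⟨e.trans f.symm⟩
  | .m24, ⟨e⟩, ⟨f⟩ => ⟨e.trans f.symm⟩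
  | .j1, ⟨e⟩, ⟨f⟩ => ⟨e.trans f.symm⟩
  | .j2, ⟨e⟩, ⟨f⟩ => ⟨e.trans f.symm⟩
  | .j3, h, h' => H677.J3Field.isoJ3_unique h h'
  | .j4, ⟨e⟩, ⟨f⟩ => ⟨e.trans f.symm⟩
  | .co1, ⟨e⟩, ⟨f⟩ => ⟨e.trans f.symm⟩
  | .co2, ⟨e⟩, ⟨f⟩ => ⟨e.trans f.symm⟩
  | .co3, ⟨e⟩, ⟨f⟩ => ⟨e.trans f.symm⟩
  | .mcl, ⟨e⟩, ⟨f⟩ => ⟨e.trans f.symm⟩
  | .hs, ⟨e⟩, ⟨f⟩ => ⟨e.trans f.symm⟩
  | .suz, ⟨e⟩, ⟨f⟩ => ⟨e.trans f.symm⟩
  | .he, ⟨e⟩, ⟨f⟩ => ⟨e.trans f.symm⟩
  | .ru, ⟨e⟩, ⟨f⟩ => ⟨e.trans f.symm⟩
  | .on, ⟨e⟩, ⟨f⟩ => ⟨e.trans f.symm⟩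
  | .ly, ⟨e⟩, ⟨f⟩ => ⟨e.trans f.symm⟩
  | .fi22, ⟨e⟩, ⟨f⟩ => ⟨e.trans f.symm⟩
  | .fi23, ⟨e⟩, ⟨f⟩ => ⟨e.trans f.symm⟩
  | .fi24, ⟨e⟩, ⟨f⟩ => ⟨e.trans f.symm⟩
  | .hn, ⟨e⟩, ⟨f⟩ => ⟨e.trans f.symm⟩
  | .th, ⟨e⟩, ⟨f⟩ => ⟨e.trans f.symm⟩
  | .b, ⟨e⟩, ⟨f⟩ => ⟨e.trans f.symm⟩
  | .m, ⟨e⟩, ⟨f⟩ => ⟨e.trans f.symm⟩

end

/-- some known degree of the group `s` fails the test (its double fails, too, if there are outer automorphisms) -/
def degHit (OK : ℕ → Bool) (s : Tag) : Bool :=
  (tab s).2.2.any fun d => !(OK d) && ((tab s).2.1 || !(OK (2 * d)))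

/-- the primes used -/
def prs : List ℕ := [5, 7, 11, 13, 17, 19, 23, 29, 31, 37, 41, 43, 47, 59, 67, 71]

/-- some prime divides the order of the group `s` and not the number `N` -/
def prHit (N : ℕ) (s : Tag) : Bool := prs.any fun p => decide ((tab s).1 % p = 0) && !decide (N % p = 0)

/-- the test, with exceptions -/
def chkEx (OK : ℕ → Bool) (t : Tag) (ex : List Tag) : Bool :=
  tags.all fun s => decide (s = t) || (ex.contains s || degHit OK s)

/-- the test -/
def chk (OK : ℕ → Bool) (t : Tag) : Bool := tags.all fun s => decide (s = t) || degHit OK s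

/-- the test with exceptions and primes -/
def chkPr (N : ℕ) (OK : ℕ → Bool) (t : Tag) (ex : List Tag) : Bool :=
  tags.all fun s => decide (s = t) || (ex.contains s || (prHit N s || degHit OK s))

section

variable {A : Type u} [Group A] [Finite A] {S : Subgroup A}

omit [Finite A] in
theorem index_dvd (hA : AlmostSimple A S) : S.index ∣ Nat.card (Cfsg.Out S) := by
  have := hA.normal
  exact H816.OutEmb.index_dvd S (by rw [hA.cent]; exact bot_le)

theorem two_deg (hA : AlmostSimple A S) (hout : Nat.card (Cfsg.Out S) ≤ 2) {a : ℕ} (ha : a ∈ charDegrees S) :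
    a ∈ charDegrees A ∨ 2 * a ∈ charDegrees A := by
  have := hA.normal
  obtain ⟨e, h3, ⟨c, rfl⟩, h5⟩ := H424.DegTools.clifford_up S ha
  have hpos : 0 < a := H424.DegTools.pos_of_mem ha
  rw [Nat.mul_div_cancel_left _ hpos] at h5
  have : Finite (MulAut S) := Finite.of_injective _ (DFunLike.coe_injective (F := MulAut S))
  have h6 : c ∣ Nat.card (Cfsg.Out S) := h5.trans (index_dvd hA)
  have h7 := Nat.le_of_dvd Nat.card_pos h6
  have h8 : c ≠ 0 := by rintro rfl; exact Nat.card_pos.ne' (zero_dvd_iff.1 h6)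
  have h9 : c = 1 ∨ c = 2 := by omega
  rcases h9 with rfl | rfl
  · left; rwa [mul_one] at h3
  · right; rwa [mul_comm] at h3

theorem one_deg (hA : AlmostSimple A S) (hout : Nat.card (Cfsg.Out S) = 1) {a : ℕ} (ha : a ∈ charDegrees S) :
    a ∈ charDegrees A := by
  have := hA.normal
  obtain ⟨e, h3, ⟨c, rfl⟩, h5⟩ := H424.DegTools.clifford_up S ha
  have hpos : 0 < a := H424.DegTools.pos_of_mem ha
  rw [Nat.mul_div_cancel_left _ hpos] at h5
  have h6 : c ∣ Nat.card (Cfsg.Out S) := h5.trans (index_dvd hA)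
  rw [hout, Nat.dvd_one] at h6
  rwa [h6, mul_one] at h3

/-- one sporadic group is excluded by one degree -/
theorem kill (hA : AlmostSimple A S) {OK : ℕ → Bool} (hOK : ∀ d ∈ charDegrees A, OK d = true) {s : Tag} (hs : IsT s S)
    (h0 : IsSporadicGroup S) (h : degHit OK s = true) : False := by
  have := hA.simple
  obtain ⟨d, hd, h1⟩ := List.any_eq_true.1 h
  rw [Bool.and_eq_true, Bool.or_eq_true] at h1
  obtain ⟨h1, h2⟩ := h1
  have hS := deg_tab hs d hd
  have hbad : ∀ e ∈ charDegrees A, (!(OK e)) = true → False := by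
    intro e he h
    rw [hOK e he] at h
    exact absurd h (by decide)
  rcases h2 with h2 | h2
  · exact hbad d (one_deg hA (out_tab hs h2) hS) h1
  · rcases two_deg hA (H489.card_out_sporadic h0) hS with h3 | h3
    · exact hbad _ h3 h1
    · exact hbad _ h3 h2

theorem prs_prime : ∀ p ∈ prs, p.Prime := by
  intro p hp
  simp only [prs, List.mem_cons, List.not_mem_nil, or_false] at hp
  rcases hp with rfl | rfl | rfl | rfl | rfl | rfl | rfl | rfl | rfl | rfl | rfl | rfl | rfl | rfl | rfl | rfl <;> norm_num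

/-- one sporadic group is excluded by one prime -/
theorem kill_prime {S : Type u} [Group S] {N : ℕ} (hN : ∀ p : ℕ, p.Prime → p ∣ Nat.card S → p ∣ N) {s : Tag}
    (hs : IsT s S) (h : prHit N s = true) : False := by
  obtain ⟨p, hp, h1⟩ := List.any_eq_true.1 h
  rw [Bool.and_eq_true, Bool.not_eq_true', decide_eq_true_eq, decide_eq_false_iff_not] at h1
  obtain ⟨h1, h2⟩ := h1
  have h3 : Nat.card S % p = 0 := by rw [card_tab hs]; exact h1
  exact h2 (Nat.mod_eq_zero_of_dvd (hN p (prs_prime p hp) (Nat.dvd_of_mod_eq_zero h3)))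

/-- **Sporadic socles**, with exceptions to be treated by hand -/
theorem spor_ex (hA : AlmostSimple A S) (hS : IsSporadicGroup S) (OK : ℕ → Bool)
    (hOK : ∀ d ∈ charDegrees A, OK d = true) (t : Tag) (ex : List Tag) (hex : ∀ s ∈ ex, IsT s S → False)
    (h : chkEx OK t ex = true) : IsT t S := by
  obtain ⟨s, hs⟩ := exists_tag hS
  have h1 := List.all_eq_true.1 h s (mem_tags s)
  rw [Bool.or_eq_true, Bool.or_eq_true, decide_eq_true_eq, List.contains_iff_mem] at h1
  rcases h1 with rfl | h1 | h1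
  · exact hs
  · exact (hex s h1 hs).elim
  · exact (kill hA hOK hs hS h1).elim

/-- **Sporadic socles** -/
theorem spor_of (hA : AlmostSimple A S) (hS : IsSporadicGroup S) (OK : ℕ → Bool)
    (hOK : ∀ d ∈ charDegrees A, OK d = true) (t : Tag) (h : chk OK t = true) : IsT t S := by
  obtain ⟨s, hs⟩ := exists_tag hS
  have h1 := List.all_eq_true.1 h s (mem_tags s)
  rw [Bool.or_eq_true, decide_eq_true_eq] at h1
  rcases h1 with rfl | h1
  · exact hs
  · exact (kill hA hOK hs hS h1).elim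

/-- **Sporadic socles**, with exceptions and primes -/
theorem spor_pr (hA : AlmostSimple A S) (hS : IsSporadicGroup S) (OK : ℕ → Bool)
    (hOK : ∀ d ∈ charDegrees A, OK d = true) (N : ℕ) (hN : ∀ p : ℕ, p.Prime → p ∣ Nat.card S → p ∣ N)
    (t : Tag) (ex : List Tag) (hex : ∀ s ∈ ex, IsT s S → False)
    (h : chkPr N OK t ex = true) : IsT t S := by
  obtain ⟨s, hs⟩ := exists_tag hS
  have h1 := List.all_eq_true.1 h s (mem_tags s)
  rw [Bool.or_eq_true, Bool.or_eq_true, Bool.or_eq_true, decide_eq_true_eq, List.contains_iff_mem] at h1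
  rcases h1 with rfl | h1 | h1 | h1
  · exact hs
  · exact (hex s h1 hs).elim
  · exact (kill_prime hN hs h1).elim
  · exact (kill hA hOK hs hS h1).elim

/-- in the form of the rows SOC1 -/
theorem spor_equiv {X : Type v} [Group X] {D : Set ℕ} (OK : ℕ → Bool) (hOK : ∀ d ∈ D, OK d = true) (t : Tag)
    (hX : IsT t X) (h : chk OK t = true) (hA : AlmostSimple A S) (hS : IsSporadicGroup S) (hD : charDegrees A ⊆ D) :
    Nonempty (S ≃* X) :=
  (spor_of hA hS OK (fun d hd => hOK d (hD hd)) t h).equiv hX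

end

/-- a degree from the bound `c * |X|`, the residues, the least degree and a list of excluded degrees -/
def std (N B : ℕ) (res : List (ℕ × List ℕ)) (ex : List ℕ) (d : ℕ) : Bool :=
  Nat.beq (N % d) 0 && Nat.blt (d * d) N && Nat.ble B d && (res.all fun x => x.2.contains (d % x.1)) && !(ex.contains d)

/-- the degrees of `X` and of a group with a normal subgroup `X` of index two, from a test `F` for the nontrivial degrees
of `X` -/
def dbl (c : ℕ) (F : ℕ → Bool) (d : ℕ) : Bool :=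
  Nat.ble d 2 || F d || (Nat.beq c 2 && Nat.beq (d % 2) 0 && F (d / 2))

end Cfsg.Agent.H460.S8
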